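import Groth.Agent.Lib.ProjSpace.BaseChange
import Groth.Agent.Lib.RegExt.P1
import Mathlib.RingTheory.Localization.LocalizationLocalization
import Mathlib.RingTheory.Valuation.ValuationRing
import Mathlib.RingTheory.Polynomial.Basic
import Mathlib.AlgebraicGeometry.AffineScheme

/-!
# The generic fibre of the projective line over an affine integral base
-/

universe u

open CategoryTheory Limits AlgebraicGeometry

noncomputable section

namespace Groth.Agent.REq15

theorem valuationRing_of_local_pid {A B : Type u} [CommRing A] [IsDomain A] [IsLocalRing A]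
    [IsPrincipalIdealRing A] [CommRing B] [IsDomain B] (e : A ≃+* B) : ValuationRing B := by
  haveI : IsBezout A := IsBezout.of_isPrincipalIdealRing _
  haveI : ValuationRing A := ValuationRing.iff_local_bezout_domain.2 ⟨inferInstance, inferInstance⟩
  exact Function.Surjective.valuationRing e.toRingHom e.surjective

theorem valuationRing_of_equiv {A B : Type u} [CommRing A] [IsDomain A] [ValuationRing A]
    [CommRing B] [IsDomain B] (e : A ≃+* B) : ValuationRing B :=
  Function.Surjective.valuationRing e.toRingHom e.surjective

/-- A prime of `R[X]` over the zero ideal of a domain `R` has a valuation ring as local ring. -/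
theorem valuationRing_atPrime_polynomial {R : Type u} [CommRing R] [IsDomain R]
    (p : Ideal (Polynomial R)) [p.IsPrime] (hp : p.comap Polynomial.C = ⊥) :
    ValuationRing (Localization.AtPrime p) := by
  let K := FractionRing R
  let A := Polynomial R
  let M : Submonoid A := (nonZeroDivisors R).map Polynomial.C
  let B := Polynomial K
  letI : Algebra A B := (Polynomial.mapRingHom (algebraMap R K)).toAlgebra
  haveI : IsLocalization M B := Polynomial.isLocalization (nonZeroDivisors R) K
  have hM : M ≤ p.primeCompl := by
    rintro _ ⟨r, hr, rfl⟩ hrp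
    have : r ∈ p.comap (Polynomial.C : R →+* A) := hrp
    rw [hp, Ideal.mem_bot] at this
    exact nonZeroDivisors.ne_zero hr this
  let q : Ideal B := Ideal.map (algebraMap A B) p
  haveI hq : q.IsPrime := IsLocalization.isPrime_of_isPrime_disjoint M B p ‹_›
    (Set.disjoint_left.2 fun a ha => hM ha)
  have hcomap : q.comap (algebraMap A B) = p := IsLocalization.under_map_of_isPrime_disjoint M B ‹_›
    (Set.disjoint_left.2 fun a ha => hM ha)
  haveI : IsLocalization.AtPrime (Localization.AtPrime q) p := by
    convert IsLocalization.isLocalization_isLocalization_atPrime_isLocalization M (Localization.AtPrime q) q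
    exact hcomap.symm
  haveI : IsPrincipalIdealRing (Localization.AtPrime q) := ⟨fun I => by
    obtain ⟨g, hg⟩ := (IsPrincipalIdealRing.principal (I.comap (algebraMap B (Localization.AtPrime q)))).principal
    refine ⟨⟨algebraMap B _ g, ?_⟩⟩
    rw [← IsLocalization.map_under q.primeCompl (Localization.AtPrime q) I]
    conv_lhs => rw [Ideal.under, hg]
    exact (Ideal.map_span _ _).trans (by rw [Set.image_singleton])⟩
  haveI : IsDomain (Localization.AtPrime q) :=
    IsLocalization.isDomain_localization (Ideal.primeCompl_le_nonZeroDivisors q)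
  let e := IsLocalization.algEquiv p.primeCompl (Localization.AtPrime q) (Localization.AtPrime p)
  haveI : IsDomain (Localization.AtPrime p) :=
    IsLocalization.isDomain_localization (Ideal.primeCompl_le_nonZeroDivisors p)
  exact valuationRing_of_local_pid (A := Localization.AtPrime q) e.toRingEquiv

theorem valuationRing_atPrime_mvPolynomial {R : Type u} [CommRing R] [IsDomain R] {σ : Type} [Unique σ]
    (p : Ideal (MvPolynomial σ R)) [p.IsPrime] (hp : p.comap MvPolynomial.C = ⊥) :
    ValuationRing (Localization.AtPrime p) ∧ IsDomain (Localization.AtPrime p) := by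
  haveI hd : IsDomain (Localization.AtPrime p) :=
    IsLocalization.isDomain_localization (Ideal.primeCompl_le_nonZeroDivisors p)
  refine ⟨?_, hd⟩
  let e : MvPolynomial σ R ≃+* Polynomial R := (MvPolynomial.uniqueAlgEquiv R σ).toRingEquiv
  let p' : Ideal (Polynomial R) := p.comap e.symm.toRingHom
  have hp' : p'.comap Polynomial.C = ⊥ := by
    rw [Ideal.comap_comap, ← hp]
    congr 1
    refine RingHom.ext fun r => ?_
    show e.symm (Polynomial.C r) = _
    rw [RingEquiv.symm_apply_eq]
    simp [e]
  haveI := valuationRing_atPrime_polynomial p' hp'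
  haveI : IsDomain (Localization.AtPrime p') :=
    IsLocalization.isDomain_localization (Ideal.primeCompl_le_nonZeroDivisors p')
  let e' := IsLocalization.ringEquivOfRingEquiv (M := p'.primeCompl) (T := p.primeCompl)
    (Localization.AtPrime p') (Localization.AtPrime p) e.symm (by
      ext x
      simp only [Submonoid.mem_map]
      constructor
      · rintro ⟨y, hy, rfl⟩
        exact hy
      · intro hx
        exact ⟨e x, fun h => hx (by
          have h0 : e.symm (e x) ∈ p := h
          rwa [e.symm_apply_apply] at h0), e.symm_apply_apply x⟩)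
  exact valuationRing_of_equiv e'

/-- `ℙ¹` over an integral affine scheme is integral. -/
theorem isIntegral_P1_spec (R : Type u) [CommRing R] [IsDomain R] :
    IsIntegral (CohB1.ProjSpaceOver 1 (Spec (CommRingCat.of R))) := by
  haveI := RegExt.isIntegral_projSpace 1 R
  haveI : Nonempty (CohB1.ProjSpaceOver 1 (Spec (CommRingCat.of R))) :=
    ⟨(ProjSpace.overSpecIso 1 R).hom (genericPoint _)⟩
  exact isIntegral_of_isOpenImmersion (ProjSpace.overSpecIso 1 R).inv

/-- The local ring of `ℙ¹` over a point above the generic point of the base is a valuation ring. -/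
theorem valuationRing_stalk_P1 {R : Type u} [CommRing R] [IsDomain R]
    (z : CohB1.ProjSpaceOver 1 (Spec (CommRingCat.of R)))
    (hz : CohB1.ProjSpaceOver.toBase 1 _ z = (⊥ : PrimeSpectrum R)) :
    IsDomain ((CohB1.ProjSpaceOver 1 (Spec (CommRingCat.of R))).presheaf.stalk z) ∧
      ∀ [IsDomain ((CohB1.ProjSpaceOver 1 (Spec (CommRingCat.of R))).presheaf.stalk z)],
        ValuationRing ((CohB1.ProjSpaceOver 1 (Spec (CommRingCat.of R))).presheaf.stalk z) := by
  let o := ProjSpace.overSpecIso 1 R
  obtain ⟨z', rfl⟩ : ∃ z', o.hom z' = z := o.hom.surjective z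
  obtain ⟨i, w, rfl⟩ := ProjSpace.exists_mem_chart 1 R z'
  let c := ProjSpace.chart 1 R i ≫ o.hom
  haveI : IsOpenImmersion c := inferInstance
  have hw : (PrimeSpectrum.comap MvPolynomial.C w : PrimeSpectrum R) = ⊥ := by
    rw [← Scheme.Hom.comp_apply, ProjSpace.overSpecIso_hom_toBase, ← Scheme.Hom.comp_apply,
      ProjSpace.chart_toSpec] at hz
    exact hz
  have hp : w.asIdeal.comap (MvPolynomial.C (σ := {j : Fin 2 // j ≠ i}) (R := R)) = ⊥ :=
    congrArg PrimeSpectrum.asIdeal hw
  have hrev : ∀ i j : Fin 2, j ≠ i ↔ j = i.rev := by decide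
  letI : Unique {j : Fin 2 // j ≠ i} :=
    { default := ⟨i.rev, (hrev i i.rev).2 rfl⟩
      uniq := fun j => Subtype.ext ((hrev i j.1).1 j.2) }
  obtain ⟨hv, hd⟩ := valuationRing_atPrime_mvPolynomial w.asIdeal hp
  let e : (CohB1.ProjSpaceOver 1 (Spec (CommRingCat.of R))).presheaf.stalk (c w) ≃+*
      Localization.AtPrime w.asIdeal :=
    (asIso (c.stalkMap w) ≪≫ Spec.stalkIso _ w).commRingCatIsoToRingEquiv
  haveI hd' : IsDomain ((CohB1.ProjSpaceOver 1 (Spec (CommRingCat.of R))).presheaf.stalk (c w)) :=
    e.toMulEquiv.isDomain _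
  refine ⟨hd', ?_⟩
  intro _
  exact valuationRing_of_equiv e.symm

end Groth.Agent.REq15
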