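import Groth.Agent.Lib.ProjSpace.BaseChange
import Groth.Prelude.Def_W4c5nonratstablectREq
import Mathlib.Algebra.MvPolynomial.Funext

/-!
# Lines in opens of affine space
-/

universe u

open CategoryTheory Limits AlgebraicGeometry

noncomputable section

namespace Groth.Agent.REq15

instance uniqueLineIdx : Unique {j : Fin (1 + 1) // j ≠ 0} where
  default := ⟨1, by decide⟩
  uniq j := Subtype.ext ((by decide : ∀ i : Fin (1 + 1), i ≠ 0 → i = 1) j.1 j.2)

/-- The affine line as an open of the projective line. -/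
def lineChart (K : Type u) [Field K] : Spec (CommRingCat.of (Polynomial K)) ⟶ REq.P1K K :=
  Spec.map (CommRingCat.ofHom (MvPolynomial.uniqueAlgEquiv K {j : Fin (1 + 1) // j ≠ 0}).toRingEquiv.toRingHom) ≫
    ProjSpace.chart 1 K 0 ≫ (ProjSpace.overSpecIso 1 K).hom

instance (K : Type u) [Field K] : IsOpenImmersion (lineChart K) := by
  unfold lineChart
  haveI : IsIso (CommRingCat.ofHom
      (MvPolynomial.uniqueAlgEquiv K {j : Fin (1 + 1) // j ≠ 0}).toRingEquiv.toRingHom) :=
    (ConcreteCategory.isIso_iff_bijective _).2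
      (MvPolynomial.uniqueAlgEquiv K {j : Fin (1 + 1) // j ≠ 0}).toRingEquiv.bijective
  infer_instance

theorem lineChart_toSpec (K : Type u) [Field K] :
    lineChart K ≫ REq.P1K.toSpec K = Spec.map (CommRingCat.ofHom Polynomial.C) := by
  rw [lineChart, Category.assoc, Category.assoc, REq.P1K.toSpec, ProjSpace.overSpecIso_hom_toBase,
    ProjSpace.chart_toSpec, ← Spec.map_comp, ← CommRingCat.ofHom_comp]
  congr 2
  ext r
  simp

variable {k : Type u} [Field k]

local notation "An" n:max => Spec (CommRingCat.of (MvPolynomial (Fin n) k))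
local notation "pA" n:max => Spec.map (CommRingCat.ofHom (algebraMap k (MvPolynomial (Fin n) k)))

/-- Two points of an open of affine space are joined by a line. -/
theorem exists_line_link {Y : Scheme.{u}} (g : Y ⟶ Spec (CommRingCat.of k)) {n : ℕ}
    (V : (An n).Opens) (b : (V : Scheme.{u}) ⟶ Y) (hb : b ≫ g = V.ι ≫ pA n)
    (K : Type u) [Field K] [Algebra k K]
    (P Q : Spec (CommRingCat.of K) ⟶ (V : Scheme.{u}))
    (hP : P ≫ V.ι ≫ pA n = REq.specMap k K) (hQ : Q ≫ V.ι ≫ pA n = REq.specMap k K)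
    (A B : REq.Pts g K) (hA : A.1 = P ≫ b) (hB : B.1 = Q ≫ b) :
    REq.ElemLink g K A B := by
  let φ := Spec.preimage (P ≫ V.ι)
  let ψ := Spec.preimage (Q ≫ V.ι)
  have hφ : Spec.map φ = P ≫ V.ι := Spec.map_preimage _
  have hψ : Spec.map ψ = Q ≫ V.ι := Spec.map_preimage _
  have hφk : φ.hom.comp (algebraMap k (MvPolynomial (Fin n) k)) = algebraMap k K := by
    have := Spec.map_injective (a₁ := CommRingCat.ofHom (algebraMap k (MvPolynomial (Fin n) k)) ≫ φ)
      (a₂ := CommRingCat.ofHom (algebraMap k K)) (by rw [Spec.map_comp, hφ, Category.assoc, hP])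
    exact congrArg CommRingCat.Hom.hom this
  have hψk : ψ.hom.comp (algebraMap k (MvPolynomial (Fin n) k)) = algebraMap k K := by
    have := Spec.map_injective (a₁ := CommRingCat.ofHom (algebraMap k (MvPolynomial (Fin n) k)) ≫ ψ)
      (a₂ := CommRingCat.ofHom (algebraMap k K)) (by rw [Spec.map_comp, hψ, Category.assoc, hQ])
    exact congrArg CommRingCat.Hom.hom this
  let L : MvPolynomial (Fin n) k →+* Polynomial K :=
    MvPolynomial.eval₂Hom (Polynomial.C.comp (algebraMap k K)) fun i =>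
      Polynomial.C (φ (MvPolynomial.X i)) +
        Polynomial.C (ψ (MvPolynomial.X i) - φ (MvPolynomial.X i)) * Polynomial.X
  have hL0 : (Polynomial.evalRingHom (0 : K)).comp L = φ.hom := by
    refine MvPolynomial.ringHom_ext (fun r => ?_) fun i => ?_
    · exact (by simp [L] : _ = algebraMap k K r).trans (RingHom.congr_fun hφk r).symm
    · simp [L]
  have hL1 : (Polynomial.evalRingHom (1 : K)).comp L = ψ.hom := by
    refine MvPolynomial.ringHom_ext (fun r => ?_) fun i => ?_
    · exact (by simp [L] : _ = algebraMap k K r).trans (RingHom.congr_fun hψk r).symm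
    · simp [L]
  let l : Spec (CommRingCat.of (Polynomial K)) ⟶ An n := Spec.map (CommRingCat.ofHom L)
  let W₀ := l ⁻¹ᵁ V
  let j := W₀.ι ≫ lineChart K
  let e0 : Spec (CommRingCat.of K) ⟶ Spec (CommRingCat.of (Polynomial K)) :=
    Spec.map (CommRingCat.ofHom (Polynomial.evalRingHom (0 : K)))
  let e1 : Spec (CommRingCat.of K) ⟶ Spec (CommRingCat.of (Polynomial K)) :=
    Spec.map (CommRingCat.ofHom (Polynomial.evalRingHom (1 : K)))
  have he0 : e0 ≫ l = P ≫ V.ι := by
    rw [← hφ, ← Spec.map_comp]; congr 1; ext1; exact hL0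
  have he1 : e1 ≫ l = Q ≫ V.ι := by
    rw [← hψ, ← Spec.map_comp]; congr 1; ext1; exact hL1
  have hr0 : Set.range e0 ⊆ Set.range W₀.ι := by
    rintro _ ⟨p, rfl⟩
    rw [Scheme.Opens.range_ι]
    show l (e0 p) ∈ V
    rw [← Scheme.Hom.comp_apply, he0]
    exact (P p).2
  have hr1 : Set.range e1 ⊆ Set.range W₀.ι := by
    rintro _ ⟨p, rfl⟩
    rw [Scheme.Opens.range_ι]
    show l (e1 p) ∈ V
    rw [← Scheme.Hom.comp_apply, he1]
    exact (Q p).2
  refine ⟨j.opensRange, j.isoOpensRange.inv ≫ (l ∣_ V) ≫ b,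
    IsOpenImmersion.lift W₀.ι e0 hr0 ≫ j.isoOpensRange.hom,
    IsOpenImmersion.lift W₀.ι e1 hr1 ≫ j.isoOpensRange.hom, ?_, ?_, ?_, ?_, ?_⟩
  · rw [Category.assoc, Category.assoc, hb, morphismRestrict_ι_assoc, Iso.inv_comp_eq,
      Scheme.Hom.isoOpensRange_hom_ι_assoc, Category.assoc, reassoc_of% (lineChart_toSpec K), ← Spec.map_comp,
      ← Spec.map_comp, ← CommRingCat.ofHom_comp, ← CommRingCat.ofHom_comp]
    congr 3
    ext r
    simp [L]
  · rw [Category.assoc, Scheme.Hom.isoOpensRange_hom_ι_assoc, Category.assoc, IsOpenImmersion.lift_fac_assoc,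
      lineChart_toSpec, ← Spec.map_comp, ← CommRingCat.ofHom_comp, ← Spec.map_id]
    congr 2
    ext r
    simp
  · rw [Category.assoc, Scheme.Hom.isoOpensRange_hom_ι_assoc, Category.assoc, IsOpenImmersion.lift_fac_assoc,
      lineChart_toSpec, ← Spec.map_comp, ← CommRingCat.ofHom_comp, ← Spec.map_id]
    congr 2
    ext r
    simp
  · rw [hA, Category.assoc, Iso.hom_inv_id_assoc, ← Category.assoc _ _ b]
    congr 1
    rw [← cancel_mono V.ι]
    simp only [Category.assoc, morphismRestrict_ι]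
    exact (IsOpenImmersion.lift_fac_assoc W₀.ι e0 hr0 l).trans he0
  · rw [hB, Category.assoc, Iso.hom_inv_id_assoc, ← Category.assoc _ _ b]
    congr 1
    rw [← cancel_mono V.ι]
    simp only [Category.assoc, morphismRestrict_ι]
    exact (IsOpenImmersion.lift_fac_assoc W₀.ι e1 hr1 l).trans he1

/-- Nonempty opens of affine space over an infinite field have rational points. -/
theorem exists_point_of_nonempty [Infinite k] {n : ℕ} (V : (An n).Opens)
    (hV : (V : Set (An n)).Nonempty) :
    ∃ P : Spec (CommRingCat.of k) ⟶ (V : Scheme.{u}), P ≫ V.ι ≫ pA n = 𝟙 _ := by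
  obtain ⟨x, hx⟩ := hV
  obtain ⟨_, ⟨r, rfl⟩, hxr, hrV⟩ :=
    PrimeSpectrum.isTopologicalBasis_basic_opens.exists_subset_of_mem_open hx V.2
  have hr : r ≠ 0 := by
    rintro rfl
    simp at hxr
  obtain ⟨z, hz⟩ : ∃ z : Fin n → k, MvPolynomial.eval z r ≠ 0 := by
    by_contra hc
    push Not at hc
    exact hr (MvPolynomial.funext fun z => by simpa using hc z)
  let p : Spec (CommRingCat.of k) ⟶ An n := Spec.map (CommRingCat.ofHom (MvPolynomial.eval z))
  have hrange : Set.range p ⊆ Set.range V.ι := by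
    rintro _ ⟨q, rfl⟩
    rw [Scheme.Opens.range_ι]
    refine hrV ?_
    intro hmem
    have : MvPolynomial.eval z r ∈ (q : PrimeSpectrum k).asIdeal := hmem
    exact (q : PrimeSpectrum k).isPrime.ne_top
      (Ideal.eq_top_of_isUnit_mem _ this (isUnit_iff_ne_zero.2 hz))
  refine ⟨IsOpenImmersion.lift V.ι p hrange, ?_⟩
  rw [IsOpenImmersion.lift_fac_assoc, ← Spec.map_comp, ← CommRingCat.ofHom_comp, ← Spec.map_id]
  congr 2
  ext a
  simp

end Groth.Agent.REq15
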