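import Groth.Agent.Lib.REq15.Line
import Groth.Agent.Lib.LfpSpread12.Basic
import Groth.Agent.Lib.DVRVal.Extend
import Groth.Prelude.Def_W4c5nonratstablectREq
import Mathlib.AlgebraicGeometry.Morphisms.Flat

/-!
# Spreading rational curves in a proper scheme over an open of the base
-/

universe u

open CategoryTheory Limits AlgebraicGeometry TopologicalSpace

noncomputable section

namespace Groth.Agent.REq15

open CohB1

/-- A flat preimmersion induces bijections on local rings. -/
theorem bijective_stalkMap_of_flat_preimmersion {X Y : Scheme.{u}} (f : X ⟶ Y) [Flat f] [IsPreimmersion f]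
    (x : X) : Function.Bijective (f.stalkMap x) := by
  refine ⟨?_, f.stalkMap_surjective x⟩
  have hflat : (f.stalkMap x).hom.Flat := Flat.stalkMap _ _
  algebraize [(f.stalkMap x).hom]
  haveI : IsLocalHom (algebraMap (Y.presheaf.stalk (f x)) (X.presheaf.stalk x)) :=
    inferInstanceAs (IsLocalHom (f.stalkMap x).hom)
  haveI : Module.FaithfullyFlat (Y.presheaf.stalk (f x)) (X.presheaf.stalk x) :=
    Module.FaithfullyFlat.of_flat_of_isLocalHom
  exact FaithfulSMul.algebraMap_injective (Y.presheaf.stalk (f x)) (X.presheaf.stalk x)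

variable {R : Type u} [CommRing R] [IsDomain R]

variable (R) in
/-- The base. -/
abbrev Bs : Scheme.{u} := Spec (CommRingCat.of R)

variable (R) in
/-- Its function field. -/
abbrev KK : Type u := (Bs R).functionField

variable (R) in
/-- The generic point as a morphism. -/
abbrev tau : Spec (CommRingCat.of (KK R)) ⟶ Bs R := (Bs R).fromSpecStalk (genericPoint (Bs R))

variable (R) in
/-- The generic fibre of the projective line. -/
abbrev LineK : Scheme.{u} := CohB1.ProjSpaceOver 1 (Spec (CommRingCat.of (KK R)))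

instance flat_fromSpecStalk : Flat (tau R) := by
  show Flat ((Spec (CommRingCat.of R)).fromSpecStalk _)
  rw [Spec.fromSpecStalk_eq]
  refine (HasRingHomProperty.Spec_iff (P := @Flat)).2 (RingHom.Flat.comp
    (RingHom.Flat.of_bijective (ConcreteCategory.bijective_of_isIso (Scheme.ΓSpecIso (CommRingCat.of R)).inv)) ?_)
  have hU := isAffineOpen_top (Spec (CommRingCat.of R))
  letI := (Spec (CommRingCat.of R)).presheaf.algebra_section_stalk (U := ⊤) ⟨genericPoint (Spec (CommRingCat.of R)), trivial⟩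
  haveI := hU.isLocalization_stalk ⟨genericPoint (Spec (CommRingCat.of R)), trivial⟩
  exact RingHom.flat_algebraMap_iff.mpr
    (IsLocalization.flat _ (hU.primeIdealOf ⟨genericPoint (Spec (CommRingCat.of R)), trivial⟩).asIdeal.primeCompl)

/-- The inclusion of the generic fibre of the projective line. -/
def genFib : CohB1.ProjSpaceOver 1 (Spec (CommRingCat.of (KK R))) ⟶ CohB1.ProjSpaceOver 1 (Bs R) :=
  ProjSpace.overMap 1 (tau R)

theorem isPullback_genFib : IsPullback (genFib (R := R)) (ProjSpaceOver.toBase 1 _) (ProjSpaceOver.toBase 1 (Bs R)) (tau R) :=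
  ProjSpace.isPullback_overMap 1 (tau R)

instance : Flat (genFib (R := R)) :=
  MorphismProperty.of_isPullback (P := @Flat) isPullback_genFib.flip inferInstance

instance : IsPreimmersion (genFib (R := R)) :=
  MorphismProperty.of_isPullback (P := @IsPreimmersion) isPullback_genFib.flip inferInstance

theorem fromSpecStalk_generic_apply (p : Spec (CommRingCat.of (KK R))) : (tau R) p = genericPoint (Bs R) := by
  rw [Subsingleton.elim (α := PrimeSpectrum (KK R)) p (IsLocalRing.closedPoint (KK R))]
  exact Scheme.fromSpecStalk_closedPoint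

theorem range_genFib :
    Set.range (genFib (R := R)) = {z | ProjSpaceOver.toBase 1 (Bs R) z = genericPoint (Bs R)} := by
  ext z
  constructor
  · rintro ⟨w, rfl⟩
    show ProjSpaceOver.toBase 1 (Bs R) (genFib w) = genericPoint (Bs R)
    rw [← Scheme.Hom.comp_apply, isPullback_genFib.w, Scheme.Hom.comp_apply, fromSpecStalk_generic_apply]
  · intro hz
    obtain ⟨w, hw1, -⟩ := Scheme.Pullback.exists_preimage_pullback (f := ProjSpaceOver.toBase 1 (Bs R)) (g := (tau R))
      z (IsLocalRing.closedPoint (KK R)) (hz.trans Scheme.fromSpecStalk_closedPoint.symm)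
    refine ⟨isPullback_genFib.isoPullback.inv w, ?_⟩
    rw [← Scheme.Hom.comp_apply, IsPullback.isoPullback_inv_fst, hw1]

instance isIntegral_P1K : IsIntegral (LineK R) := isIntegral_P1_spec _

theorem genFib_genericPoint :
    haveI := isIntegral_P1_spec R
    genFib (R := R) (genericPoint (LineK R)) = genericPoint (CohB1.ProjSpaceOver 1 (Bs R)) := by
  haveI := isIntegral_P1_spec R
  have hmem : genericPoint (CohB1.ProjSpaceOver 1 (Bs R)) ∈ Set.range (genFib (R := R)) := by
    rw [range_genFib]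
    refine (Specializes.antisymm (genericPoint_specializes _) ?_).eq.symm
    obtain ⟨z, hz⟩ := (ProjSpaceOver.toBase 1 (Bs R)).surjective (genericPoint (Bs R))
    exact hz ▸ (genericPoint_specializes z).map (ProjSpaceOver.toBase 1 (Bs R)).continuous
  obtain ⟨w, hw⟩ := hmem
  rw [← hw]
  congr 1
  refine (Specializes.antisymm (genericPoint_specializes w) ?_).eq
  rw [← (genFib (R := R)).isEmbedding.isInducing.specializes_iff, hw]
  exact genericPoint_specializes _

variable {k : Type u} [Field k] (g0 : (Bs R) ⟶ Spec (CommRingCat.of k)) [LocallyOfFiniteType g0]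
  {X : Scheme.{u}} (f : X ⟶ Spec (CommRingCat.of k)) [IsProper f]

/-- A morphism from an open of the generic fibre of `ℙ¹_B` to a proper scheme extends to
`ℙ¹_V` for an open `V` containing the generic point. -/
theorem exists_extend_generic (W : Opens (LineK R)) (hW : (W : Set (LineK R)).Nonempty)
    (h : (Scheme.Opens.toScheme (X := (LineK R)) W) ⟶ X)
    (hh : h ≫ f = Scheme.Opens.ι (X := (LineK R)) W ≫ ProjSpaceOver.toBase 1 _ ≫ (tau R) ≫ g0) :
    ∃ (V : Opens (Bs R)), genericPoint (Bs R) ∈ V ∧ ∃ (D : (CohB1.ProjSpaceOver 1 (Bs R)).Opens) (H : (D : Scheme.{u}) ⟶ X),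
      H ≫ f = D.ι ≫ ProjSpaceOver.toBase 1 (Bs R) ≫ g0 ∧
      (∀ z, ProjSpaceOver.toBase 1 (Bs R) z ∈ V → z ∈ D) ∧
      ∃ (hWD : Set.range (Scheme.Opens.ι (X := (LineK R)) W ≫ genFib) ⊆ Set.range D.ι),
        IsOpenImmersion.lift D.ι (Scheme.Opens.ι (X := (LineK R)) W ≫ genFib) hWD ≫ H = h := by
  haveI : IsLocallyNoetherian (Spec (CommRingCat.of k)) := inferInstance
  haveI : LocallyOfFinitePresentation f := inferInstance
  let P := CohB1.ProjSpaceOver 1 (Bs R)
  haveI : IsIntegral P := isIntegral_P1_spec R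
  haveI : IsLocallyNoetherian P := LocallyOfFiniteType.isLocallyNoetherian (ProjSpaceOver.toBase 1 (Bs R) ≫ g0)
  let q : P ⟶ Spec (CommRingCat.of k) := ProjSpaceOver.toBase 1 (Bs R) ≫ g0
  let ξK := genericPoint (LineK R)
  have hξW : ξK ∈ W := ((genericPoint_spec (LineK R)).mem_open_set_iff W.2).2 (by simpa using hW)
  have hξ : genFib (R := R) ξK = genericPoint P := genFib_genericPoint
  let e : P.presheaf.stalk (genericPoint P) ≅ CohB1.ProjSpaceOver 1 (Spec (CommRingCat.of (KK R))) |>.presheaf.stalk ξK :=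
    P.presheaf.stalkCongr (Inseparable.of_eq hξ.symm) ≪≫
      (RingEquiv.ofBijective _ (bijective_stalkMap_of_flat_preimmersion genFib ξK)).toCommRingCatIso
  let φ : Spec (P.presheaf.stalk (genericPoint P)) ⟶ X :=
    Spec.map e.inv ≫ Scheme.Opens.fromSpecStalkOfMem W ξK hξW ≫ h
  have he : Spec.map e.hom ≫ P.fromSpecStalk (genericPoint P) = (LineK R).fromSpecStalk ξK ≫ genFib := by
    show Spec.map ((P.presheaf.stalkCongr (Inseparable.of_eq hξ.symm)).hom ≫
      CommRingCat.ofHom (genFib.stalkMap ξK).hom) ≫ _ = _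
    rw [Spec.map_comp, Category.assoc]
    simp [← Scheme.SpecMap_stalkMap_fromSpecStalk]
    rfl
  have hφ : φ ≫ f = P.fromSpecStalk (genericPoint P) ≫ q := by
    rw [← cancel_epi (Spec.map e.hom)]
    simp only [φ, Category.assoc, ← Spec.map_comp_assoc, Iso.inv_hom_id, Spec.map_id, Category.id_comp, hh]
    rw [reassoc_of% he, Scheme.Opens.fromSpecStalkOfMem_ι_assoc, ← reassoc_of% (isPullback_genFib (R := R)).w]
  obtain ⟨D₀, hD₀, g₀, hg₀, hg₀f⟩ := LfpSpread12.exists_spread' q f φ hφ
  let π := pullback.snd f q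
  obtain ⟨D, hD0D, s, hs, hsD, hmem⟩ := DVRVal.exists_extend_section π (Scheme.Hom.isClosedMap _)
    (fun z => ProjSpaceOver.toBase 1 (Bs R) z = genericPoint (Bs R))
    (fun z hz => valuationRing_stalk_P1 z (hz.trans (genericPoint_eq_bot_of_affine (CommRingCat.of R))))
    D₀ (D₀.2.dense ⟨_, hD₀⟩) (pullback.lift g₀ D₀.ι hg₀f) (pullback.lift_snd _ _ _)
  let H := s ≫ pullback.fst f q
  have hHf : H ≫ f = D.ι ≫ q := by
    simp only [H, Category.assoc, pullback.condition]
    rw [← hs]; simp [π]
  let V : Opens (Bs R) := ⟨(ProjSpaceOver.toBase 1 (Bs R) '' (D : Set P)ᶜ)ᶜ,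
    ((ProjSpaceOver.toBase 1 (Bs R)).isClosedMap _ D.2.isClosed_compl).isOpen_compl⟩
  have hrange : Set.range (Scheme.Opens.ι (X := (LineK R)) W ≫ genFib) ⊆ Set.range D.ι := by
    rintro _ ⟨w, rfl⟩
    rw [Scheme.Opens.range_ι]
    refine hmem _ ?_
    exact (range_genFib (R := R)).subset ⟨_, (Scheme.Hom.comp_apply _ _ _).symm⟩
  refine ⟨V, ?_, D, H, hHf, fun z hz => ?_, hrange, ?_⟩
  · rintro ⟨z, hz, hzη⟩
    exact hz (hmem z hzη)
  · by_contra hzD
    exact hz ⟨z, hzD, rfl⟩
  · haveI : IsReduced (Scheme.Opens.toScheme (X := (LineK R)) W) := isReduced_of_isOpenImmersion (Scheme.Opens.ι (X := (LineK R)) W)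
    haveI : IsDominant (Scheme.Opens.fromSpecStalkOfMem W ξK hξW) := by
      refine ⟨fun w => ?_⟩
      refine closure_mono (s := {⟨ξK, hξW⟩}) ?_ ?_
      · rintro _ rfl
        exact ⟨IsLocalRing.closedPoint _, (Scheme.Opens.ι (X := (LineK R)) W).isEmbedding.injective (by
          rw [← Scheme.Hom.comp_apply, Scheme.Opens.fromSpecStalkOfMem_ι, Scheme.fromSpecStalk_closedPoint]
          rfl)⟩
      · rw [← specializes_iff_mem_closure, ← (Scheme.Opens.ι (X := (LineK R)) W).isEmbedding.isInducing.specializes_iff]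
        exact genericPoint_specializes _
    refine ext_of_isDominant_of_isSeparated f ?_ (Scheme.Opens.fromSpecStalkOfMem W ξK hξW) ?_
    · rw [Category.assoc, hHf, IsOpenImmersion.lift_fac_assoc, hh, Category.assoc,
        ← reassoc_of% (isPullback_genFib (R := R)).w]
    · have hk : Scheme.Opens.fromSpecStalkOfMem W ξK hξW ≫ IsOpenImmersion.lift D.ι (Scheme.Opens.ι (X := (LineK R)) W ≫ genFib) hrange =
          Spec.map e.hom ≫ D₀.fromSpecStalkOfMem _ hD₀ ≫ P.homOfLE hD0D := by
        rw [← cancel_mono D.ι]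
        simp only [Category.assoc, IsOpenImmersion.lift_fac, Scheme.homOfLE_ι,
          Scheme.Opens.fromSpecStalkOfMem_ι_assoc, Scheme.Opens.fromSpecStalkOfMem_ι, he]
      rw [reassoc_of% hk]
      simp only [H, reassoc_of% hsD, pullback.lift_fst]
      rw [← hg₀]
      simp [φ, ← Spec.map_comp_assoc]

end Groth.Agent.REq15
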