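import Groth.Agent.Lib.REq15.Extend

/-!
# `ℙ¹`-invariant presheaves do not separate R-equivalent points
-/

universe u v

open CategoryTheory Limits AlgebraicGeometry TopologicalSpace Opposite

noncomputable section

namespace Groth.Agent.REq15

variable {k : Type u} [Field k] (Φ : (Over (Spec (CommRingCat.of k)))ᵒᵖ ⥤ Type v)

/-- Invariance of `Φ` under the projective line over smooth bases. -/
def IsP1Invariant : Prop :=
  ∀ (Y : Scheme.{u}) (g : Y ⟶ Spec (CommRingCat.of k)) [IsIntegral Y] [Smooth g]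
      [IsSeparated g] [QuasiCompact g],
      Function.Bijective (Φ.map (Over.homMk (CohB1.ProjSpaceOver.toBase 1 Y) rfl :
        Over.mk (CohB1.ProjSpaceOver.toBase 1 Y ≫ g) ⟶ Over.mk g).op)

variable {R : Type u} [CommRing R] [IsDomain R] (g0 : Bs R ⟶ Spec (CommRingCat.of k))
  {X : Scheme.{u}} (f : X ⟶ Spec (CommRingCat.of k))

/-- Two points over the generic point are equivalent if they extend to an open where `Φ` cannot
tell the extensions apart. -/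
def GenEqv (A B : Spec (CommRingCat.of (KK R)) ⟶ X) : Prop :=
  ∃ (V : (Bs R).Opens) (hV : genericPoint (Bs R) ∈ V) (a b : (V : Scheme.{u}) ⟶ X)
    (ha : a ≫ f = V.ι ≫ g0) (hb : b ≫ f = V.ι ≫ g0),
    V.fromSpecStalkOfMem _ hV ≫ a = A ∧ V.fromSpecStalkOfMem _ hV ≫ b = B ∧
    ∀ α, Φ.map (Over.homMk a ha : Over.mk (V.ι ≫ g0) ⟶ Over.mk f).op α =
      Φ.map (Over.homMk b hb : Over.mk (V.ι ≫ g0) ⟶ Over.mk f).op α

variable {Φ} {g0} {f}

theorem GenEqv.symm {A B : Spec (CommRingCat.of (KK R)) ⟶ X} (h : GenEqv Φ g0 f A B) :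
    GenEqv Φ g0 f B A := by
  obtain ⟨V, hV, a, b, ha, hb, h1, h2, h3⟩ := h
  exact ⟨V, hV, b, a, hb, ha, h2, h1, fun α => (h3 α).symm⟩

theorem fromSpecStalkOfMem_homOfLE {V W : (Bs R).Opens} (h : V ≤ W) {x : Bs R} (hx : x ∈ V) :
    V.fromSpecStalkOfMem x hx ≫ (Bs R).homOfLE h = W.fromSpecStalkOfMem x (h hx) := by
  rw [← cancel_mono W.ι]
  simp

instance isDominant_fromSpecStalkOfMem (V : (Bs R).Opens) (hV : genericPoint (Bs R) ∈ V) :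
    IsDominant (V.fromSpecStalkOfMem _ hV) := by
  refine ⟨fun w => ?_⟩
  refine closure_mono (s := {⟨genericPoint (Bs R), hV⟩}) ?_ ?_
  · rintro _ rfl
    exact ⟨IsLocalRing.closedPoint _, V.ι.isEmbedding.injective (by
      rw [← Scheme.Hom.comp_apply, Scheme.Opens.fromSpecStalkOfMem_ι, Scheme.fromSpecStalk_closedPoint]
      rfl)⟩
  · rw [← specializes_iff_mem_closure, ← V.ι.isEmbedding.isInducing.specializes_iff]
    exact genericPoint_specializes _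

theorem ext_of_generic [IsSeparated f] {V : (Bs R).Opens} (hV : genericPoint (Bs R) ∈ V)
    (a b : (V : Scheme.{u}) ⟶ X) (ha : a ≫ f = V.ι ≫ g0) (hb : b ≫ f = V.ι ≫ g0)
    (h : V.fromSpecStalkOfMem _ hV ≫ a = V.fromSpecStalkOfMem _ hV ≫ b) : a = b := by
  haveI : IsReduced (V : Scheme.{u}) := isReduced_of_isOpenImmersion V.ι
  exact ext_of_isDominant_of_isSeparated f (ha.trans hb.symm) _ h

theorem map_restrict {V W : (Bs R).Opens} (h : V ≤ W) (a : (W : Scheme.{u}) ⟶ X)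
    (ha : a ≫ f = W.ι ≫ g0) (ha' : ((Bs R).homOfLE h ≫ a) ≫ f = V.ι ≫ g0) (α : Φ.obj (op (Over.mk f))) :
    Φ.map (Over.homMk ((Bs R).homOfLE h ≫ a) ha' : Over.mk (V.ι ≫ g0) ⟶ Over.mk f).op α =
      Φ.map (Over.homMk ((Bs R).homOfLE h) (by simp) : Over.mk (V.ι ≫ g0) ⟶ Over.mk (W.ι ≫ g0)).op
        (Φ.map (Over.homMk a ha : Over.mk (W.ι ≫ g0) ⟶ Over.mk f).op α) := by
  rw [← ConcreteCategory.comp_apply, ← Φ.map_comp, ← op_comp]
  rfl

theorem GenEqv.trans [IsSeparated f] {A B C : Spec (CommRingCat.of (KK R)) ⟶ X} (h : GenEqv Φ g0 f A B)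
    (h' : GenEqv Φ g0 f B C) : GenEqv Φ g0 f A C := by
  obtain ⟨V, hV, a, b, ha, hb, h1, h2, h3⟩ := h
  obtain ⟨W, hW, b', c, hb', hc, h4, h5, h6⟩ := h'
  let iV := (Bs R).homOfLE (inf_le_left : V ⊓ W ≤ V)
  let iW := (Bs R).homOfLE (inf_le_right : V ⊓ W ≤ W)
  have eV : ∀ (t : (V : Scheme.{u}) ⟶ X), t ≫ f = V.ι ≫ g0 → (iV ≫ t) ≫ f = (V ⊓ W).ι ≫ g0 :=
    fun t ht => by simp [iV, ht]
  have eW : ∀ (t : (W : Scheme.{u}) ⟶ X), t ≫ f = W.ι ≫ g0 → (iW ≫ t) ≫ f = (V ⊓ W).ι ≫ g0 :=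
    fun t ht => by simp [iW, ht]
  have key : ∀ (t t' : ((V ⊓ W : (Bs R).Opens) : Scheme.{u}) ⟶ X) (ht : t ≫ f = (V ⊓ W).ι ≫ g0)
      (ht' : t' ≫ f = (V ⊓ W).ι ≫ g0), t = t' → ∀ {α},
      Φ.map (Over.homMk t ht : Over.mk ((V ⊓ W).ι ≫ g0) ⟶ Over.mk f).op α =
        Φ.map (Over.homMk t' ht' : Over.mk ((V ⊓ W).ι ≫ g0) ⟶ Over.mk f).op α := by
    rintro t _ ht ht' rfl α
    rfl
  refine ⟨V ⊓ W, ⟨hV, hW⟩, iV ≫ a, iW ≫ c, eV a ha, eW c hc, ?_, ?_, fun α => ?_⟩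
  · rw [reassoc_of% fromSpecStalkOfMem_homOfLE (inf_le_left : V ⊓ W ≤ V), h1]
  · rw [reassoc_of% fromSpecStalkOfMem_homOfLE (inf_le_right : V ⊓ W ≤ W), h5]
  · have hbb : iV ≫ b = iW ≫ b' :=
      ext_of_generic (show genericPoint (Bs R) ∈ V ⊓ W from ⟨hV, hW⟩) _ _ (eV b hb) (eW b' hb') (by
      rw [reassoc_of% fromSpecStalkOfMem_homOfLE (inf_le_left : V ⊓ W ≤ V), h2,
        reassoc_of% fromSpecStalkOfMem_homOfLE (inf_le_right : V ⊓ W ≤ W), h4])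
    rw [map_restrict (inf_le_left : V ⊓ W ≤ V) a ha, map_restrict (inf_le_right : V ⊓ W ≤ W) c hc, h3 α,
      ← h6 α, ← map_restrict _ b hb (eV b hb), ← map_restrict _ b' hb' (eW b' hb')]
    exact key _ _ _ _ hbb

theorem GenEqv.refl [LocallyOfFiniteType f] {A : Spec (CommRingCat.of (KK R)) ⟶ X}
    (hA : A ≫ f = tau R ≫ g0) : GenEqv Φ g0 f A A := by
  haveI : LocallyOfFinitePresentation f := inferInstance
  obtain ⟨V, hV, a, ha, haf⟩ := LfpSpread12.exists_spread' g0 f A hA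
  exact ⟨V, hV, a, a, haf, haf, ha.symm, ha.symm, fun _ => rfl⟩

/-- Two points of a rational curve over the function field are equivalent. -/
theorem genEqv_of_curve [Smooth g0] [IsProper f] (hΦ : IsP1Invariant Φ) (W : (LineK R).Opens)
    (h : (W : Scheme.{u}) ⟶ X) (hh : h ≫ f = W.ι ≫ CohB1.ProjSpaceOver.toBase 1 _ ≫ tau R ≫ g0)
    (a b : Spec (CommRingCat.of (KK R)) ⟶ (W : Scheme.{u}))
    (ha : a ≫ W.ι ≫ CohB1.ProjSpaceOver.toBase 1 _ = 𝟙 _)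
    (hb : b ≫ W.ι ≫ CohB1.ProjSpaceOver.toBase 1 _ = 𝟙 _) :
    GenEqv Φ g0 f (a ≫ h) (b ≫ h) := by
  obtain ⟨V, hV, D, H, hHf, hVD, hWD, hcomp⟩ :=
    exists_extend_generic g0 f W ⟨(W.ι (a (IsLocalRing.closedPoint _))), (a (IsLocalRing.closedPoint _)).2⟩ h hh
  let P := CohB1.ProjSpaceOver 1 (Bs R)
  let L := IsOpenImmersion.lift D.ι (W.ι ≫ genFib) hWD
  haveI : LocallyOfFinitePresentation (CohB1.ProjSpaceOver.toBase 1 (Bs R)) := inferInstance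
  have spreadSection : ∀ c : Spec (CommRingCat.of (KK R)) ⟶ (W : Scheme.{u}),
      c ≫ W.ι ≫ CohB1.ProjSpaceOver.toBase 1 _ = 𝟙 _ →
      ∃ (U : (Bs R).Opens) (hU : genericPoint (Bs R) ∈ U) (c' : (U : Scheme.{u}) ⟶ P),
        c' ≫ CohB1.ProjSpaceOver.toBase 1 (Bs R) = U.ι ∧
          U.fromSpecStalkOfMem _ hU ≫ c' = c ≫ W.ι ≫ genFib := by
    intro c hc
    have h1 : (c ≫ W.ι ≫ genFib) ≫ CohB1.ProjSpaceOver.toBase 1 (Bs R) = tau R ≫ 𝟙 (Bs R) := by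
      simp only [Category.assoc, (isPullback_genFib (R := R)).w]
      rw [reassoc_of% hc, Category.comp_id]
    obtain ⟨U, hU, c', hc', hc'f⟩ :=
      LfpSpread12.exists_spread' (𝟙 (Bs R)) (CohB1.ProjSpaceOver.toBase 1 (Bs R)) (c ≫ W.ι ≫ genFib) h1
    exact ⟨U, hU, c', hc'f.trans (Category.comp_id _), hc'.symm⟩
  obtain ⟨Ua, hUa, a', ha', hae⟩ := spreadSection a ha
  obtain ⟨Ub, hUb, b', hb', hbe⟩ := spreadSection b hb
  let V' : (Bs R).Opens := V ⊓ (Ua ⊓ Ub)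
  have hV' : genericPoint (Bs R) ∈ V' := ⟨hV, hUa, hUb⟩
  haveI : Nonempty (V' : Scheme.{u}) := ⟨⟨_, hV'⟩⟩
  haveI : IsIntegral (V' : Scheme.{u}) := isIntegral_of_isOpenImmersion V'.ι
  haveI : IsNoetherianRing R := by
    haveI : IsLocallyNoetherian (Spec (CommRingCat.of R)) := LocallyOfFiniteType.isLocallyNoetherian g0
    exact isLocallyNoetherian_Spec.mp ‹_›
  haveI : NoetherianSpace (Bs R) := inferInstanceAs (NoetherianSpace (PrimeSpectrum R))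
  haveI : CompactSpace (V' : Scheme.{u}) :=
    isCompact_iff_compactSpace.mp (NoetherianSpace.isCompact (V' : Set (Bs R)))
  haveI : QuasiCompact (V'.ι ≫ g0) := (quasiCompact_iff_compactSpace _).mpr inferInstance
  haveI : IsSeparated (V'.ι ≫ g0) := inferInstance
  haveI : Smooth (V'.ι ≫ g0) := inferInstance
  let Q := CohB1.ProjSpaceOver 1 (V' : Scheme.{u})
  let pr := CohB1.ProjSpaceOver.toBase 1 (V' : Scheme.{u})
  let j : Q ⟶ P := ProjSpace.overMap 1 V'.ι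
  have hj : IsPullback j pr (CohB1.ProjSpaceOver.toBase 1 (Bs R)) V'.ι := ProjSpace.isPullback_overMap 1 _
  have hjD : Set.range j ⊆ Set.range D.ι := by
    rintro _ ⟨w, rfl⟩
    rw [Scheme.Opens.range_ι]
    refine hVD _ ?_
    rw [← Scheme.Hom.comp_apply, hj.w, Scheme.Hom.comp_apply]
    exact (pr w).2.1
  let H' : Q ⟶ X := IsOpenImmersion.lift D.ι j hjD ≫ H
  have hH' : H' ≫ f = pr ≫ V'.ι ≫ g0 := by
    simp only [H', Category.assoc, hHf, IsOpenImmersion.lift_fac_assoc]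
    rw [reassoc_of% hj.w]
  let Hov : Over.mk (pr ≫ V'.ι ≫ g0) ⟶ Over.mk f := Over.homMk H' hH'
  let prov : Over.mk (pr ≫ V'.ι ≫ g0) ⟶ Over.mk (V'.ι ≫ g0) := Over.homMk pr rfl
  have hbij : Function.Bijective (Φ.map prov.op) := hΦ (V' : Scheme.{u}) (V'.ι ≫ g0)
  have mkSec : ∀ (U : (Bs R).Opens) (hle : V' ≤ U) (c : Spec (CommRingCat.of (KK R)) ⟶ (W : Scheme.{u}))
      (hU : genericPoint (Bs R) ∈ U) (c' : (U : Scheme.{u}) ⟶ P),
      c' ≫ CohB1.ProjSpaceOver.toBase 1 (Bs R) = U.ι →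
      U.fromSpecStalkOfMem _ hU ≫ c' = c ≫ W.ι ≫ genFib →
      ∃ s : (V' : Scheme.{u}) ⟶ Q, s ≫ pr = 𝟙 _ ∧ V'.fromSpecStalkOfMem _ hV' ≫ s ≫ H' = c ≫ h := by
    intro U hle c hU c' hc' hce
    refine ⟨hj.lift ((Bs R).homOfLE hle ≫ c') (𝟙 _) (by simp [hc']), hj.lift_snd _ _ _, ?_⟩
    rw [← hcomp, ← Category.assoc c]
    simp only [H', ← Category.assoc]
    congr 1
    rw [← cancel_mono D.ι]
    simp only [Category.assoc, IsOpenImmersion.lift_fac, hj.lift_fst]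
    rw [reassoc_of% fromSpecStalkOfMem_homOfLE hle, hce]
  obtain ⟨sa, hsa, hsaH⟩ := mkSec Ua (inf_le_right.trans inf_le_left) a hUa a' ha' hae
  obtain ⟨sb, hsb, hsbH⟩ := mkSec Ub (inf_le_right.trans inf_le_right) b hUb b' hb' hbe
  have hf' : ∀ s : (V' : Scheme.{u}) ⟶ Q, s ≫ pr = 𝟙 _ → (s ≫ H') ≫ f = V'.ι ≫ g0 := fun s hs => by
    rw [Category.assoc, hH', reassoc_of% hs]
  refine ⟨V', hV', sa ≫ H', sb ≫ H', hf' sa hsa, hf' sb hsb, hsaH, hsbH, fun α => ?_⟩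
  obtain ⟨β, hβ⟩ := hbij.2 (Φ.map Hov.op α)
  have key : ∀ (s : (V' : Scheme.{u}) ⟶ Q) (hs : s ≫ pr = 𝟙 _),
      Φ.map (Over.homMk (s ≫ H') (hf' s hs) : Over.mk (V'.ι ≫ g0) ⟶ Over.mk f).op α = β := by
    intro s hs
    let sov : Over.mk (V'.ι ≫ g0) ⟶ Over.mk (pr ≫ V'.ι ≫ g0) := Over.homMk s (by
      show s ≫ pr ≫ V'.ι ≫ g0 = V'.ι ≫ g0
      rw [reassoc_of% hs])
    rw [show (Over.homMk (s ≫ H') (hf' s hs) : Over.mk (V'.ι ≫ g0) ⟶ Over.mk f) = sov ≫ Hov from rfl,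
      op_comp, Φ.map_comp, ConcreteCategory.comp_apply, ← hβ, ← ConcreteCategory.comp_apply, ← Φ.map_comp,
      ← op_comp, show sov ≫ prov = 𝟙 _ from Over.OverMorphism.ext hs, op_id, Φ.map_id]
    rfl
  rw [key sa hsa, key sb hsb]

end Groth.Agent.REq15
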