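import Groth.Agent.Lib.REq15.AffineLine

/-!
# Lines in opens of projective space
-/

universe u

open CategoryTheory Limits AlgebraicGeometry MvPolynomial HomogeneousLocalization

noncomputable section

set_option backward.isDefEq.respectTransparency.types false

namespace Groth.Agent.REq15

variable (k : Type u) [Field k] (n : ℕ)

local notation "PR" => MvPolynomial (Fin (n + 1)) k
local notation "gr" => CohB1.polyGrading n k

/-- A linear substitution as a graded homomorphism. -/
def subst (v : Fin (n + 1) → PR) (hv : ∀ l, (v l).IsHomogeneous 1) : gr →+*ᵍ gr where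
  __ := (aeval v).toRingHom
  map_mem {d p} h := by
    have h' : p.IsHomogeneous d := h
    show (aeval v p).IsHomogeneous d
    simpa using h'.aeval v hv

variable {k n}

theorem subst_apply {v : Fin (n + 1) → PR} {hv : ∀ l, (v l).IsHomogeneous 1} (p : PR) :
    subst k n v hv p = aeval v p := rfl

/-- `T_i ↦ T_i + c T_j`, the other variables fixed. -/
def shear (i j : Fin (n + 1)) (c : k) : gr →+*ᵍ gr :=
  subst k n (fun l => if l = i then X i + C c * X j else X l) (fun l => by
    split_ifs
    · exact (isHomogeneous_X k i).add ((isHomogeneous_X k j).C_mul c)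
    · exact isHomogeneous_X k l)

theorem shear_X_self (i j : Fin (n + 1)) (c : k) : shear i j c (X i) = X i + C c * X j := by
  simp [shear, subst_apply]

theorem shear_X_ne {i l : Fin (n + 1)} (j : Fin (n + 1)) (c : k) (h : l ≠ i) :
    shear i j c (X l) = X l := by
  simp [shear, subst_apply, h]

theorem shear_C (i j : Fin (n + 1)) (c r : k) : shear i j c (C r) = C r := by
  simp [shear, subst_apply]

theorem shear_comp_apply {i j : Fin (n + 1)} (hij : j ≠ i) (c : k) (p : PR) :
    shear i j c (shear i j (-c) p) = p := by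
  induction p using MvPolynomial.induction_on with
  | C r => rw [shear_C, shear_C]
  | add p q hp hq => rw [map_add, map_add, hp, hq]
  | mul_X p l hp =>
    rw [map_mul, map_mul, hp]
    congr 1
    by_cases h : l = i
    · subst h
      rw [shear_X_self, map_add, map_mul, shear_C, shear_X_self, shear_X_ne j c hij]
      simp [add_assoc, ← add_mul]
    · rw [shear_X_ne j (-c) h, shear_X_ne j c h]

theorem shear_irrelevant {i j : Fin (n + 1)} (hij : j ≠ i) (c : k) :
    HomogeneousIdeal.irrelevant gr ≤ (HomogeneousIdeal.irrelevant gr).map (shear i j c) := by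
  rw [← toIdeal_le_toIdeal_iff, HomogeneousIdeal.toIdeal_map]
  intro x hx
  rw [← shear_comp_apply hij c x]
  refine Ideal.mem_map_of_mem _ ?_
  have hle : (HomogeneousIdeal.irrelevant gr).toIdeal ≤
      (HomogeneousIdeal.irrelevant gr).toIdeal.comap (shear i j (-c)) :=
    (ProjSpace.irrelevant_le_span n k).trans (Ideal.span_le.2 (by
      rintro _ ⟨l, rfl⟩
      exact HomogeneousIdeal.mem_irrelevant_of_mem _ Nat.one_pos
        ((shear i j (-c)).2 (ProjSpace.X_mem' n k l))))
  exact hle hx

theorem shear_comp_eq {i j : Fin (n + 1)} (hij : j ≠ i) (c : k) :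
    (shear i j c).comp (shear i j (-c)) = GradedRingHom.id gr := by
  exact GradedRingHom.ext fun p => shear_comp_apply hij c p

/-- The automorphism of `P^n` given by a shear. -/
theorem isIso_map_shear {i j : Fin (n + 1)} (hij : j ≠ i) (c : k) :
    IsIso (Proj.map (shear i j c) (shear_irrelevant hij c)) := by
  have key : ∀ d : k, Proj.map (shear i j d) (shear_irrelevant hij d) ≫
      Proj.map (shear i j (-d)) (shear_irrelevant hij (-d)) = 𝟙 _ := fun d => by
    rw [← Proj.map_comp, ← Proj.map_id]
    congr 1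
    exact shear_comp_eq hij d
  refine ⟨Proj.map (shear i j (-c)) (shear_irrelevant hij (-c)), key c, ?_⟩
  have := key (-c)
  simp only [neg_neg] at this
  exact this

/-- The standard chart with indices in `Fin n`. -/
def finChart (i : Fin (n + 1)) :
    Spec (CommRingCat.of (MvPolynomial (Fin n) k)) ⟶ CohB1.ProjSpace n k :=
  Spec.map (CommRingCat.ofHom (renameEquiv k (finSuccAboveEquiv i)).symm.toRingEquiv.toRingHom) ≫
    ProjSpace.chart n k i

instance (i : Fin (n + 1)) : IsOpenImmersion (finChart (k := k) i) := by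
  unfold finChart
  haveI : IsIso (CommRingCat.ofHom (renameEquiv k (finSuccAboveEquiv i)).symm.toRingEquiv.toRingHom) :=
    (ConcreteCategory.isIso_iff_bijective _).2 (renameEquiv k (finSuccAboveEquiv i)).symm.bijective
  infer_instance

theorem finChart_toSpec (i : Fin (n + 1)) :
    finChart i ≫ CohB1.ProjSpace.toSpec n k =
      Spec.map (CommRingCat.ofHom (algebraMap k (MvPolynomial (Fin n) k))) := by
  rw [finChart, Category.assoc, ProjSpace.chart_toSpec, ← Spec.map_comp, ← CommRingCat.ofHom_comp]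
  congr 2
  ext r
  simp

theorem range_finChart (i : Fin (n + 1)) :
    Set.range (finChart (k := k) i) = ((Proj.basicOpen gr (X i : PR) : (Proj gr).Opens) : Set (Proj gr)) := by
  haveI : IsIso (CommRingCat.ofHom (renameEquiv k (finSuccAboveEquiv i)).symm.toRingEquiv.toRingHom) :=
    (ConcreteCategory.isIso_iff_bijective _).2 (renameEquiv k (finSuccAboveEquiv i)).symm.bijective
  rw [← ProjSpace.opensRange_chart, ← Scheme.Hom.coe_opensRange]
  refine congrArg (fun U : (CohB1.ProjSpace n k).Opens => (U : Set (CohB1.ProjSpace n k))) ?_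
  exact Scheme.Hom.opensRange_comp_of_isIso _ _

theorem map_shear_toSpec {i j : Fin (n + 1)} (hij : j ≠ i) (c : k) :
    finChart i ≫ Proj.map (shear i j c) (shear_irrelevant hij c) ≫ CohB1.ProjSpace.toSpec n k =
      Spec.map (CommRingCat.ofHom (algebraMap k (MvPolynomial (Fin n) k))) := by
  let s : PR := shear i j (-c) (X i)
  have hs : s ∈ gr 1 := (shear i j (-c)).2 (ProjSpace.X_mem' n k i)
  have hsX : shear i j c s = X i := shear_comp_apply hij c (X i)
  rw [← finChart_toSpec i]
  simp only [finChart, Category.assoc]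
  congr 1
  show ProjSpace.chartP n k i ≫ Proj.map (shear i j c) (shear_irrelevant hij c) ≫
      Proj.toSpecZero gr ≫ Spec.map (CommRingCat.ofHom (algebraMap k (gr 0))) =
    ProjSpace.chartP n k i ≫ Proj.toSpecZero gr ≫ Spec.map (CommRingCat.ofHom (algebraMap k (gr 0)))
  unfold ProjSpace.chartP
  simp only [Category.assoc]
  congr 1
  have key : ∀ (t : PR) (ht : t ∈ gr 1), shear i j c s = t →
      Proj.awayι gr t ht Nat.one_pos ≫ Proj.map (shear i j c) (shear_irrelevant hij c) ≫
        Proj.toSpecZero gr ≫ Spec.map (CommRingCat.ofHom (algebraMap k (gr 0))) =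
      Proj.awayι gr t ht Nat.one_pos ≫ Proj.toSpecZero gr ≫
        Spec.map (CommRingCat.ofHom (algebraMap k (gr 0))) := by
    rintro t ht rfl
    rw [Proj.awayι_comp_map_assoc _ _ Nat.one_pos _ hs, Proj.awayι_toSpecZero_assoc,
      Proj.awayι_toSpecZero_assoc, ← Spec.map_comp, ← Spec.map_comp, ← Spec.map_comp,
      ← CommRingCat.ofHom_comp, ← CommRingCat.ofHom_comp, ← CommRingCat.ofHom_comp]
    congr 2
    ext r
    simp [fromZeroRingHom, Away.map, HomogeneousLocalization.map_mk, HomogeneousLocalization.val_mk,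
      shear_C]
  exact key (X i) (ProjSpace.X_mem' n k i) hsX

/-- Any two points lie in a common chart. -/
theorem exists_chart_pair (x y : Proj gr) :
    ∃ j : Spec (CommRingCat.of (MvPolynomial (Fin n) k)) ⟶ CohB1.ProjSpace n k,
      IsOpenImmersion j ∧ x ∈ Set.range j ∧ y ∈ Set.range j ∧
      j ≫ CohB1.ProjSpace.toSpec n k =
        Spec.map (CommRingCat.ofHom (algebraMap k (MvPolynomial (Fin n) k))) := by
  by_cases h : ∃ i, x ∈ Proj.basicOpen gr (X i) ∧ y ∈ Proj.basicOpen gr (X i)
  · obtain ⟨i, hx, hy⟩ := h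
    exact ⟨finChart i, inferInstance, by rw [range_finChart]; exact hx, by rw [range_finChart]; exact hy,
      finChart_toSpec i⟩
  simp only [not_exists, not_and] at h
  have hcov : ∀ z : Proj gr, ∃ i, z ∈ Proj.basicOpen gr (X i) := fun z =>
    TopologicalSpace.Opens.mem_iSup.1 ((ProjSpace.iSup_basicOpen n k).symm ▸ (trivial : z ∈ (⊤ : (Proj gr).Opens)))
  obtain ⟨i, hx⟩ := hcov x
  obtain ⟨j, hy⟩ := hcov y
  have hyi := h i hx
  have hxj : x ∉ Proj.basicOpen gr (X j) := fun h' => h j h' hy
  have hij : j ≠ i := fun e => hxj (e ▸ hx)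
  let m := Proj.map (shear i j (-1 : k)) (shear_irrelevant hij _)
  haveI : IsIso m := isIso_map_shear hij _
  have hrange : ∀ z : Proj gr, z ∈ Proj.basicOpen gr (X i + X j) →
      z ∈ Set.range (finChart i ≫ m) := by
    intro z hz
    obtain ⟨w, rfl⟩ := m.surjective z
    have hw : w ∈ m ⁻¹ᵁ Proj.basicOpen gr (X i + X j) := hz
    rw [Proj.map_preimage_basicOpen, map_add, shear_X_self, shear_X_ne j _ hij, map_neg, C_1,
      neg_one_mul, neg_add_cancel_right] at hw
    obtain ⟨a, rfl⟩ : w ∈ Set.range (finChart (k := k) i) := by rw [range_finChart]; exact hw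
    exact ⟨a, rfl⟩
  refine ⟨finChart i ≫ m, @IsOpenImmersion.comp _ _ _ _ _ inferInstance (inferInstanceAs (IsOpenImmersion m)), hrange x ?_, hrange y ?_,
    (Category.assoc _ _ _).trans (map_shear_toSpec hij _)⟩
  · rw [Proj.mem_basicOpen] at hx hxj ⊢
    intro hsum
    exact hx (by simpa using Ideal.sub_mem _ hsum (not_not.1 hxj))
  · rw [Proj.mem_basicOpen] at hy hyi ⊢
    intro hsum
    exact hy (by simpa using Ideal.sub_mem _ hsum (not_not.1 hyi))

/-- Two rational points of an open of projective space are joined by a line. -/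
theorem elemLink_opens (V : (CohB1.ProjSpaceOver n (Spec (CommRingCat.of k))).Opens)
    (K : Type u) [Field K] [Algebra k K]
    (A B : REq.Pts (V.ι ≫ CohB1.ProjSpaceOver.toBase n (Spec (CommRingCat.of k))) K) :
    REq.ElemLink (V.ι ≫ CohB1.ProjSpaceOver.toBase n (Spec (CommRingCat.of k))) K A B := by
  let e := ProjSpace.overSpecIso n k
  let z : Spec (CommRingCat.of K) := IsLocalRing.closedPoint K
  obtain ⟨j, hj, hx, hy, hjs⟩ := exists_chart_pair (e.inv (V.ι (A.1 z))) (e.inv (V.ι (B.1 z)))
  let j' := j ≫ e.hom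
  have hj's : j' ≫ CohB1.ProjSpaceOver.toBase n (Spec (CommRingCat.of k)) =
      Spec.map (CommRingCat.ofHom (algebraMap k (MvPolynomial (Fin n) k))) := by
    rw [Category.assoc, ProjSpace.overSpecIso_hom_toBase, hjs]
  have hrange : ∀ C : REq.Pts (V.ι ≫ CohB1.ProjSpaceOver.toBase n (Spec (CommRingCat.of k))) K,
      e.inv (V.ι (C.1 z)) ∈ Set.range j → Set.range C.1 ⊆ Set.range (j' ∣_ V) := by
    rintro C ⟨a, ha⟩ _ ⟨z', rfl⟩
    obtain rfl : z' = z := Subsingleton.elim (α := PrimeSpectrum K) _ _
    have ha' : j' a = V.ι (C.1 z) := by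
      rw [Scheme.Hom.comp_apply, ha, ← Scheme.Hom.comp_apply, e.inv_hom_id]
      rfl
    have haV : a ∈ j' ⁻¹ᵁ V := by
      show j' a ∈ V
      rw [ha']; exact (C.1 z).2
    refine ⟨⟨a, haV⟩, V.ι.isOpenEmbedding.injective ?_⟩
    rw [← ha', ← Scheme.Hom.comp_apply, morphismRestrict_ι]
    rfl
  let liftP (C : REq.Pts (V.ι ≫ CohB1.ProjSpaceOver.toBase n (Spec (CommRingCat.of k))) K)
      (h : e.inv (V.ι (C.1 z)) ∈ Set.range j) :=
    IsOpenImmersion.lift (j' ∣_ V) C.1 (hrange C h)
  have hlift : ∀ C h, liftP C h ≫ (j' ⁻¹ᵁ V).ι ≫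
      Spec.map (CommRingCat.ofHom (algebraMap k (MvPolynomial (Fin n) k))) = REq.specMap k K := by
    intro C h
    rw [← hj's, ← morphismRestrict_ι_assoc, IsOpenImmersion.lift_fac_assoc]
    exact C.2
  exact exists_line_link _ (j' ⁻¹ᵁ V) (j' ∣_ V) (by rw [morphismRestrict_ι_assoc, hj's]) K
    (liftP A hx) (liftP B hy) (hlift A hx) (hlift B hy) A B
    (IsOpenImmersion.lift_fac _ _ _).symm (IsOpenImmersion.lift_fac _ _ _).symm

end Groth.Agent.REq15
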